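import Mathlib
import Groth.Prelude.Def_DRing2

/-! `Hom_{D(A)}(K, M[p])` for a pseudo-coherent `K`, through cycles on a finite free representative:
classes, exactness tools, Artin–Rees. -/

universe u

open CategoryTheory CategoryTheory.Limits CochainComplex.HomComplex
attribute [local instance] HasDerivedCategory.standard

namespace Groth.Agent.PCExt

variable {A : Type u} [CommRing A]

lemma Q_map_surjective_of_isKProjective (E L : DRing.Cx A) [E.IsKProjective] :
    Function.Surjective (fun f : E ⟶ L => DerivedCategory.Q.map f) := by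
  intro g
  let iso := DerivedCategory.quotientCompQhIso (ModuleCat.{u} A)
  obtain ⟨f', hf'⟩ := (CochainComplex.IsKProjective.Qh_map_bijective E
    ((HomotopyCategory.quotient _ _).obj L)).surjective (iso.hom.app E ≫ g ≫ iso.inv.app L)
  obtain ⟨f, rfl⟩ := (HomotopyCategory.quotient _ _).map_surjective f'
  refine ⟨f, ?_⟩
  have h := iso.hom.naturality f
  simp only [Functor.comp_map, hf', Category.assoc, Iso.inv_hom_id_app, Category.comp_id] at h
  exact ((cancel_epi (iso.hom.app E)).1 h).symm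

lemma Q_map_eq_zero_iff_of_isKProjective {E L : DRing.Cx A} [E.IsKProjective] (f : E ⟶ L) :
    DerivedCategory.Q.map f = 0 ↔ (HomotopyCategory.quotient _ _).map f = 0 := by
  let iso := DerivedCategory.quotientCompQhIso (ModuleCat.{u} A)
  have h := iso.hom.naturality f
  simp only [Functor.comp_map] at h
  constructor
  · intro h0
    apply (CochainComplex.IsKProjective.Qh_map_bijective E _).injective
    rw [Functor.map_zero, ← cancel_mono (iso.hom.app L), h, h0, comp_zero, zero_comp]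
  · intro h0
    rw [h0, Functor.map_zero, zero_comp] at h
    exact (cancel_epi (iso.hom.app E)).1 (h.symm.trans comp_zero.symm)

/-- `Q(X[0][p]) ≅ X[p]`. -/
noncomputable def shIso (p : ℤ) (X : ModuleCat.{u} A) :
    DerivedCategory.Q.obj (((CochainComplex.singleFunctor (ModuleCat.{u} A) 0).obj X)⟦p⟧) ≅
      ((DerivedCategory.singleFunctor (ModuleCat.{u} A) 0).obj X)⟦p⟧ :=
  (DerivedCategory.Q.commShiftIso p).app _

lemma shIso_naturality (p : ℤ) {X X' : ModuleCat.{u} A} (g : X ⟶ X') :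
    DerivedCategory.Q.map (((CochainComplex.singleFunctor (ModuleCat.{u} A) 0).map g)⟦p⟧') ≫
        (shIso p X').hom =
      (shIso p X).hom ≫ ((DerivedCategory.singleFunctor (ModuleCat.{u} A) 0).map g)⟦p⟧' :=
  (DerivedCategory.Q.commShiftIso p).hom.naturality
    ((CochainComplex.singleFunctor (ModuleCat.{u} A) 0).map g)

variable {K : Dual.D A} {E : DRing.Cx A}

/-- The class of a cycle `φ : E^{-p} ⟶ X` in `Hom_D(K, X[p])`. -/
noncomputable def cls (i : DRing.toD E ≅ K) (p : ℤ) {X : ModuleCat.{u} A} (φ : E.X (-p) ⟶ X)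
    (hφ : E.d (-p - 1) (-p) ≫ φ = 0) :
    K ⟶ ((DerivedCategory.singleFunctor (ModuleCat.{u} A) 0).obj X)⟦p⟧ :=
  i.inv ≫ DerivedCategory.Q.map (Cocycle.equivHomShift.symm
      (Cocycle.toSingleMk φ (neg_add_cancel p) (-p - 1) (by ring) hφ)) ≫ (shIso p X).hom

theorem cls_surjective [E.IsKProjective] (i : DRing.toD E ≅ K) (p : ℤ) {X : ModuleCat.{u} A}
    (e : K ⟶ ((DerivedCategory.singleFunctor (ModuleCat.{u} A) 0).obj X)⟦p⟧) :
    ∃ φ hφ, cls i p φ hφ = e := by
  obtain ⟨f, hf⟩ := Q_map_surjective_of_isKProjective E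
    ((((CochainComplex.singleFunctor (ModuleCat.{u} A) 0).obj X))⟦p⟧)
    (i.hom ≫ e ≫ (shIso p X).inv)
  obtain ⟨φ, hφ, h⟩ := Cocycle.toSingleMk_surjective (Cocycle.equivHomShift f) (-p)
    (neg_add_cancel p) (-p - 1) (by ring)
  refine ⟨φ, hφ, ?_⟩
  simp only at hf
  rw [cls, h, AddEquiv.symm_apply_apply, hf]
  simp

theorem cls_eq_zero_iff [E.IsKProjective] (i : DRing.toD E ≅ K) (p : ℤ) {X : ModuleCat.{u} A}
    (φ : E.X (-p) ⟶ X) (hφ : E.d (-p - 1) (-p) ≫ φ = 0) :
    cls i p φ hφ = 0 ↔ ∃ g : E.X (-p + 1) ⟶ X, E.d (-p) (-p + 1) ≫ g = φ := by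
  rw [cls, Preadditive.IsIso.comp_left_eq_zero, Preadditive.IsIso.comp_right_eq_zero,
    Q_map_eq_zero_iff_of_isKProjective, ← CohomologyClass.toHom_mk,
    CohomologyClass.toHom_mk_eq_zero_iff]
  exact Cocycle.toSingleMk_mem_coboundaries_iff φ _ _ _ hφ _ rfl

theorem cls_comp (i : DRing.toD E ≅ K) (p : ℤ) {X X' : ModuleCat.{u} A} (φ : E.X (-p) ⟶ X)
    (hφ : E.d (-p - 1) (-p) ≫ φ = 0) (g : X ⟶ X') :
    cls i p φ hφ ≫ ((DerivedCategory.singleFunctor (ModuleCat.{u} A) 0).map g)⟦p⟧' =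
      cls i p (φ ≫ g) (by rw [← Category.assoc, hφ, zero_comp]) := by
  rw [cls, cls, Cocycle.toSingleMk_postcomp _ _ _ (by ring) hφ, Cocycle.equivHomShift_symm_postcomp]
  simp only [Functor.map_comp, Category.assoc]
  rw [shIso_naturality]

theorem cls_smul (i : DRing.toD E ≅ K) (p : ℤ) {X : ModuleCat.{u} A} (φ : E.X (-p) ⟶ X)
    (hφ : E.d (-p - 1) (-p) ≫ φ = 0) (r : A) :
    cls i p (r • φ) (by rw [Linear.comp_smul, hφ, smul_zero]) = r • cls i p φ hφ := by
  have h := cls_comp i p φ hφ (r • 𝟙 X)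
  have hg : φ ≫ (r • 𝟙 X) = r • φ := by rw [Linear.comp_smul, Category.comp_id]
  rw [Functor.map_smul, Functor.map_smul, Linear.comp_smul,
    (DerivedCategory.singleFunctor (ModuleCat.{u} A) 0).map_id X,
    (shiftFunctor (Dual.D A) p).map_id, Category.comp_id] at h
  rw [h]
  congr 1

theorem cls_add (i : DRing.toD E ≅ K) (p : ℤ) {X : ModuleCat.{u} A} (φ ψ : E.X (-p) ⟶ X)
    (hφ : E.d (-p - 1) (-p) ≫ φ = 0) (hψ : E.d (-p - 1) (-p) ≫ ψ = 0) :
    cls i p (φ + ψ) (by rw [Preadditive.comp_add, hφ, hψ, add_zero]) =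
      cls i p φ hφ + cls i p ψ hψ := by
  simp only [cls]
  rw [Cocycle.toSingleMk_add φ ψ _ _ _ hφ hψ, map_add, Functor.map_add, Preadditive.add_comp,
    Preadditive.comp_add]

/-- Cycles in degree `p` of `Hom(E, X)`. -/
def cycles (E : DRing.Cx A) (p : ℤ) (X : ModuleCat.{u} A) : Submodule A (E.X (-p) ⟶ X) :=
  LinearMap.ker (Linear.leftComp A X (E.d (-p - 1) (-p)))

lemma mem_cycles {p : ℤ} {X : ModuleCat.{u} A} {φ : E.X (-p) ⟶ X} :
    φ ∈ cycles E p X ↔ E.d (-p - 1) (-p) ≫ φ = 0 := Iff.rfl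

/-- `cls` as a linear map on cycles. -/
noncomputable def clsHom (i : DRing.toD E ≅ K) (p : ℤ) (X : ModuleCat.{u} A) :
    cycles E p X →ₗ[A] (K ⟶ ((DerivedCategory.singleFunctor (ModuleCat.{u} A) 0).obj X)⟦p⟧) where
  toFun φ := cls i p φ.1 φ.2
  map_add' φ ψ := cls_add i p φ.1 ψ.1 φ.2 ψ.2
  map_smul' r φ := cls_smul i p φ.1 φ.2 r

theorem clsHom_surjective [E.IsKProjective] (i : DRing.toD E ≅ K) (p : ℤ) (X : ModuleCat.{u} A) :
    Function.Surjective (clsHom i p X) := fun e => by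
  obtain ⟨φ, hφ, h⟩ := cls_surjective i p e
  exact ⟨⟨φ, hφ⟩, h⟩

section FiniteFree

variable (hfree : DRing.TermwiseFiniteFree E) (M : Type u) [AddCommGroup M] [Module A M]
  [Module.Finite A M] [IsNoetherianRing A]

include hfree

lemma finite_hom (q : ℤ) : Module.Finite A (E.X q ⟶ ModuleCat.of A M) := by
  have := (hfree q).1
  exact Module.Finite.equiv
    (ModuleCat.homLinearEquiv (S := A) (M := E.X q) (N := ModuleCat.of A M)).symm

/-- Maps with values in `IM` are in `I • Hom`. -/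
lemma mem_smul_top_hom (I : Ideal A) (q : ℤ) (φ : E.X q ⟶ ModuleCat.of A M)
    (hφ : ∀ x, φ.hom x ∈ (I • ⊤ : Submodule A M)) :
    φ ∈ (I • ⊤ : Submodule A (E.X q ⟶ ModuleCat.of A M)) := by
  obtain ⟨h1, h2⟩ := hfree q
  let b := Module.Free.chooseBasis A (E.X q)
  have e : φ = ∑ j, ModuleCat.ofHom ((b.coord j).smulRight (φ.hom (b j))) := by
    apply ModuleCat.hom_ext
    apply b.ext
    intro k
    rw [ModuleCat.hom_sum, LinearMap.sum_apply, Finset.sum_eq_single k]
    · simp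
    · intro j _ hj; simp [Finsupp.single_eq_of_ne hj]
    · simp
  rw [e]
  refine Submodule.sum_mem _ fun j _ => ?_
  have hm := hφ (b j)
  generalize φ.hom (b j) = m at hm ⊢
  induction hm using Submodule.smul_induction_on' with
  | smul r hr m _ =>
    have : ModuleCat.ofHom (X := E.X q) (Y := M) ((b.coord j).smulRight (r • m)) =
        r • ModuleCat.ofHom ((b.coord j).smulRight m) := by
      ext x; simp [smul_comm r]
    rw [this]
    exact Submodule.smul_mem_smul hr Submodule.mem_top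
  | add x _ y _ hx hy =>
    have : ModuleCat.ofHom (X := E.X q) (Y := M) ((b.coord j).smulRight (x + y)) =
        ModuleCat.ofHom ((b.coord j).smulRight x) + ModuleCat.ofHom ((b.coord j).smulRight y) := by
      ext z; simp
    rw [this]
    exact Submodule.add_mem _ hx hy

/-- Artin–Rees for cycles. -/
theorem exists_cycle_mem (I : Ideal A) (p : ℤ) :
    ∃ c : ℕ, ∀ n, c ≤ n → ∀ φ : E.X (-p) ⟶ ModuleCat.of A M,
      φ ∈ cycles E p (ModuleCat.of A M) → (∀ x, φ.hom x ∈ (I ^ n • ⊤ : Submodule A M)) →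
      φ ∈ I ^ (n - c) • cycles E p (ModuleCat.of A M) := by
  have := finite_hom hfree M (-p)
  obtain ⟨c, hc⟩ := I.exists_pow_inf_eq_pow_smul (cycles E p (ModuleCat.of A M))
  refine ⟨c, fun n hn φ hφ hφn => ?_⟩
  have : φ ∈ (I ^ n • ⊤ : Submodule A _) ⊓ cycles E p (ModuleCat.of A M) :=
    ⟨mem_smul_top_hom hfree M _ _ _ hφn, hφ⟩
  rw [hc n hn] at this
  exact Submodule.smul_mono le_rfl inf_le_right this

theorem finite_ext [E.IsKProjective] (i : DRing.toD E ≅ K) (p : ℤ) :
    Module.Finite A (K ⟶ ((DerivedCategory.singleFunctor (ModuleCat.{u} A) 0).obj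
      (ModuleCat.of A M))⟦p⟧) := by
  have := finite_hom hfree M (-p)
  exact Module.Finite.of_surjective _ (clsHom_surjective i p _)

theorem exists_cls_mem [E.IsKProjective] (i : DRing.toD E ≅ K) (I : Ideal A) (p : ℤ) :
    ∃ c : ℕ, ∀ n, c ≤ n → ∀ φ : E.X (-p) ⟶ ModuleCat.of A M, ∀ hφ : E.d (-p - 1) (-p) ≫ φ = 0,
      (∀ x, φ.hom x ∈ (I ^ n • ⊤ : Submodule A M)) →
      cls i p φ hφ ∈ (I ^ (n - c) • ⊤ : Submodule A (K ⟶
        ((DerivedCategory.singleFunctor (ModuleCat.{u} A) 0).obj (ModuleCat.of A M))⟦p⟧)) := by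
  obtain ⟨c, hc⟩ := exists_cycle_mem hfree M I p
  refine ⟨c, fun n hn φ hφ hφn => ?_⟩
  have h := hc n hn φ hφ hφn
  have h2 : (⟨φ, hφ⟩ : cycles E p (ModuleCat.of A M)) ∈ (I ^ (n - c) • ⊤ : Submodule A _) := by
    have : (cycles E p (ModuleCat.of A M)).subtype ⟨φ, hφ⟩ ∈
        (I ^ (n - c) • ⊤ : Submodule A (cycles E p (ModuleCat.of A M))).map (cycles E p (ModuleCat.of A M)).subtype := by
      rwa [Submodule.map_smul'', Submodule.map_top, Submodule.range_subtype]
    obtain ⟨y, hy, hyx⟩ := this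
    rwa [← (cycles E p (ModuleCat.of A M)).injective_subtype hyx]
  have h3 := Submodule.mem_map_of_mem (f := clsHom i p _) h2
  rw [Submodule.map_smul''] at h3
  exact Submodule.smul_mono le_rfl le_top h3

end FiniteFree

/-- A bounded above complex of free modules is K-projective. -/
theorem isKProjective_of_free (b : ℤ) (hb : DRing.VanishesAbove E b)
    (hfree : DRing.TermwiseFiniteFree E) : E.IsKProjective := by
  have : E.IsStrictlyLE b := by
    rw [CochainComplex.isStrictlyLE_iff]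
    exact fun j hj => hb j hj
  have : ∀ j, CategoryTheory.Projective (E.X j) := fun j => by
    have := (hfree j).2
    have : Module.Projective A (E.X j) := Module.Projective.of_free
    exact (IsProjective.iff_projective (E.X j)).1 this
  exact CochainComplex.isKProjective_of_projective E b

end Groth.Agent.PCExt
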